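import Cfsg.Prelude.Def_DegreeGraph
import Cfsg.Agent.Lib.Char.Counting
import Cfsg.Agent.Lib.Char.Table
import Cfsg.Agent.Lib.Char.Central
import Cfsg.Agent.Lib.Char.Artin
import Cfsg.Agent.Lib.Char.Extraspecial
import Cfsg.Agent.Lib.FourOrbit.Basic

/-!
# Soluble groups of order `6048` with prescribed character degree graphs
-/

set_option autoImplicit false
set_option linter.style.haveILetI false

namespace CfsgLib.DegreeThreeThree

open Cfsg
open scoped CfsgLib.Char commutatorElement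

/-- `F₂³ ⋊ C₇`. -/
@[ext] structure AffEight where
  v : ZMod 2 × ZMod 2 × ZMod 2
  k : ZMod 7
deriving DecidableEq

namespace AffEight

/-- The companion map of `X³ + X + 1`. -/
def step (v : ZMod 2 × ZMod 2 × ZMod 2) : ZMod 2 × ZMod 2 × ZMod 2 := (v.2.2, v.1 + v.2.2, v.2.1)

/-- The action. -/
def act (k : ZMod 7) : ZMod 2 × ZMod 2 × ZMod 2 → ZMod 2 × ZMod 2 × ZMod 2 := step^[k.val]

theorem act_add (k l : ZMod 7) (v : ZMod 2 × ZMod 2 × ZMod 2) : act (k + l) v = act k (act l v) := by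
  revert k l v
  decide +kernel

theorem act_map (k : ZMod 7) (v w : ZMod 2 × ZMod 2 × ZMod 2) : act k (v + w) = act k v + act k w := by
  revert k v w
  decide +kernel

theorem act_zero (v : ZMod 2 × ZMod 2 × ZMod 2) : act 0 v = v := rfl

instance : Mul AffEight := ⟨fun x y => ⟨x.v + act x.k y.v, x.k + y.k⟩⟩
instance : One AffEight := ⟨⟨0, 0⟩⟩
instance : Inv AffEight := ⟨fun x => ⟨-act (-x.k) x.v, -x.k⟩⟩

theorem mul_def (x y : AffEight) : x * y = ⟨x.v + act x.k y.v, x.k + y.k⟩ := rfl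
theorem one_def : (1 : AffEight) = ⟨0, 0⟩ := rfl

def equiv : AffEight ≃ (ZMod 2 × ZMod 2 × ZMod 2) × ZMod 7 where
  toFun x := (x.v, x.k)
  invFun x := ⟨x.1, x.2⟩
  left_inv _ := rfl
  right_inv _ := rfl

instance : Fintype AffEight := Fintype.ofEquiv _ equiv.symm

theorem inv_mul (x : AffEight) : x⁻¹ * x = 1 := by
  revert x
  decide +kernel

theorem one_mul' (x : AffEight) : 1 * x = x := by
  revert x
  decide +kernel

instance : Group AffEight :=
  Group.ofLeftAxioms
    (fun a b c => by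
      simp only [mul_def]
      rw [act_map, ← act_add, add_assoc, add_assoc])
    one_mul' inv_mul

theorem card_eq : Nat.card AffEight = 56 := by rw [Nat.card_eq_fintype_card]; decide +kernel

theorem comm_pairs : Fintype.card {p : AffEight × AffEight // p.1 * p.2 = p.2 * p.1} = 448 := by
  decide +kernel

/-- The translations. -/
def trans : Subgroup AffEight where
  carrier := {x | x.k = 0}
  mul_mem' {a b} ha hb := by
    show a.k + b.k = 0
    rw [show a.k = 0 from ha, show b.k = 0 from hb, add_zero]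
  one_mem' := rfl
  inv_mem' {a} ha := by
    show -a.k = 0
    rw [show a.k = 0 from ha, neg_zero]

theorem trans_normal : trans.Normal := ⟨by
  have : ∀ n : AffEight, n.k = 0 → ∀ g : AffEight, (g * n * g⁻¹).k = 0 := by decide +kernel
  exact this⟩

theorem trans_comm : ∀ a ∈ trans, ∀ b ∈ trans, a * b = b * a := by
  have : ∀ a : AffEight, a.k = 0 → ∀ b : AffEight, b.k = 0 → a * b = b * a := by decide +kernel
  exact this

theorem trans_index : trans.index = 7 := by
  have h := trans.card_mul_index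
  rw [card_eq, show Nat.card trans = 8 from ?_] at h
  · omega
  show Nat.card {x : AffEight // x.k = 0} = 8
  rw [Nat.card_eq_fintype_card]
  decide +kernel

end AffEight

/-- Heisenberg group of order `27` extended by an inverting element; `e` tells whether it inverts
the centre. -/
@[ext] structure HeiTwo (e : Bool) where
  a : ZMod 3
  b : ZMod 3
  c : ZMod 3
  s : (ZMod 3)ˣ
deriving DecidableEq

namespace HeiTwo

variable {e : Bool}

/-- The action on the second coordinate. -/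
def sb (e : Bool) (s : (ZMod 3)ˣ) : (ZMod 3)ˣ := if e then 1 else s

theorem sb_mul (s t : (ZMod 3)ˣ) : sb e (s * t) = sb e s * sb e t := by cases e <;> simp [sb]

instance : Mul (HeiTwo e) := ⟨fun x y =>
  ⟨x.a + x.s * y.a, x.b + (sb e x.s : (ZMod 3)ˣ) * y.b,
    x.c + (x.s * sb e x.s : (ZMod 3)ˣ) * y.c + x.a * ((sb e x.s : (ZMod 3)ˣ) * y.b), x.s * y.s⟩⟩
instance : One (HeiTwo e) := ⟨⟨0, 0, 0, 1⟩⟩
instance : Inv (HeiTwo e) := ⟨fun x =>
  ⟨-(x.s * x.a), -((sb e x.s : (ZMod 3)ˣ) * x.b),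
    -((x.s * sb e x.s : (ZMod 3)ˣ) * (x.c - x.a * x.b)), x.s⟩⟩

theorem mul_def (x y : HeiTwo e) : x * y =
  ⟨x.a + x.s * y.a, x.b + (sb e x.s : (ZMod 3)ˣ) * y.b,
    x.c + (x.s * sb e x.s : (ZMod 3)ˣ) * y.c + x.a * ((sb e x.s : (ZMod 3)ˣ) * y.b), x.s * y.s⟩ := rfl

def equiv : HeiTwo e ≃ ZMod 3 × ZMod 3 × ZMod 3 × (ZMod 3)ˣ where
  toFun x := (x.a, x.b, x.c, x.s)
  invFun x := ⟨x.1, x.2.1, x.2.2.1, x.2.2.2⟩
  left_inv _ := rfl
  right_inv _ := rfl

instance : Fintype (HeiTwo e) := Fintype.ofEquiv _ equiv.symm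

theorem inv_mul (x : HeiTwo e) : x⁻¹ * x = 1 := by
  revert x
  cases e <;> decide +kernel

theorem one_mul' (x : HeiTwo e) : 1 * x = x := by
  revert x
  cases e <;> decide +kernel

instance : Group (HeiTwo e) :=
  Group.ofLeftAxioms
    (fun x y z => by
      simp only [mul_def, sb_mul, Units.val_mul, mk.injEq, mul_assoc, and_true]
      refine ⟨?_, ?_, ?_⟩ <;> ring)
    one_mul' inv_mul

theorem card_eq : Nat.card (HeiTwo e) = 54 := by
  rw [Nat.card_eq_fintype_card]; cases e <;> decide +kernel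

theorem comm_pairs : Fintype.card {p : HeiTwo e × HeiTwo e // p.1 * p.2 = p.2 * p.1} = 540 := by
  cases e <;> decide +kernel

end HeiTwo

section Degrees

variable {G : Type*} [Group G] [Finite G]

theorem degree_data (N k : ℕ) (hN : Nat.card G = N) (hk : Nat.card (ConjClasses G) = k) :
    ∃ d : IrrCharacter G → ℕ, (∀ χ : IrrCharacter G, charDegree (χ : G → ℂ) = d χ ∧ (χ : G → ℂ) 1 = d χ ∧ 0 < d χ ∧ d χ ∣ N) ∧
      ∑ χ, d χ * d χ = N ∧ (Finset.univ : Finset (IrrCharacter G)).card = k ∧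
      (Finset.univ.filter fun χ => d χ = 1).card = (commutator G).index := by
  classical
  have hd : ∀ χ : IrrCharacter G, ∃ d : ℕ,
      charDegree (χ : G → ℂ) = d ∧ (χ : G → ℂ) 1 = d ∧ 0 < d ∧ d ∣ N := fun χ => by
    obtain ⟨d, h1, h2, h3⟩ := CfsgLib.Char.exists_degree_dvd_card χ.2
    exact ⟨d, CfsgLib.Char.Extraspecial.charDegree_eq h1, h1, h2, hN ▸ h3⟩
  choose d hd using hd
  refine ⟨d, hd, ?_, ?_, ?_⟩
  · have h := CfsgLib.Char.sum_degree_mul_irr (1 : G)
    rw [if_pos rfl, hN, Finset.sum_congr rfl fun χ _ => by rw [(hd χ).2.1]] at h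
    exact_mod_cast h
  · rw [Finset.card_univ, ← Nat.card_eq_fintype_card, CfsgLib.Char.card_irr_eq_card_conjClasses, hk]
  · rw [← CfsgLib.Char.card_linear, Nat.card_eq_fintype_card, Fintype.card_subtype]
    congr 1
    ext χ
    simp only [Finset.mem_filter, Finset.mem_univ, true_and, (hd χ).2.1, Nat.cast_eq_one]

theorem classes_of_pairs [Fintype G] [DecidableEq G] {N k : ℕ} (hN : Nat.card G = N) (h0 : N ≠ 0)
    (h : Fintype.card {p : G × G // p.1 * p.2 = p.2 * p.1} = k * N) : Nat.card (ConjClasses G) = k := by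
  have h' := card_comm_eq_card_conjClasses_mul_card G
  rw [hN, show Nat.card { p : G × G // Commute p.1 p.2 } =
    Nat.card {p : G × G // p.1 * p.2 = p.2 * p.1} from rfl, Nat.card_eq_fintype_card, h] at h'
  exact (Nat.eq_of_mul_eq_mul_right (Nat.pos_of_ne_zero h0) h').symm

end Degrees

theorem affEight_degrees : charDegrees AffEight = {1, 7} := by
  classical
  obtain ⟨d, hd, hsum, hk, -⟩ := degree_data 56 8 AffEight.card_eq
    (classes_of_pairs AffEight.card_eq (by norm_num) AffEight.comm_pairs)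
  haveI := AffEight.trans_normal
  have hd7 : ∀ χ, d χ = 1 ∨ d χ = 7 := fun χ => (Nat.dvd_prime (by norm_num)).mp
    (AffEight.trans_index ▸ CfsgLib.Char.Extraspecial.ito χ.2 AffEight.trans AffEight.trans_comm (hd χ).2.1)
  have h7 : ∃ χ, d χ = 7 := by
    by_contra hne
    push Not at hne
    rw [Finset.sum_congr rfl fun χ _ => by rw [(hd7 χ).resolve_right (hne χ)], Finset.sum_const, hk] at hsum
    norm_num at hsum
  ext m
  constructor
  · rintro ⟨χ, rfl⟩
    rw [(hd χ).1]
    simpa using hd7 χ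
  · rintro (rfl | rfl)
    · exact ⟨⟨fun _ => 1, CfsgLib.Char.isIrrCharacter_one⟩, CfsgLib.Char.Extraspecial.charDegree_eq (by norm_num)⟩
    · obtain ⟨χ, hχ⟩ := h7
      exact ⟨χ, (hd χ).1.trans hχ⟩

theorem heiTwo_degree_dvd {e : Bool} (χ : IrrCharacter (HeiTwo e)) {d : ℕ}
    (hd : charDegree (χ : HeiTwo e → ℂ) = d) (h54 : d ∣ 54) (hsq : d * d ≤ 54) :
    d = 1 ∨ d = 2 ∨ d = 3 ∨ d = 6 := by
  have : d ≤ 7 := by
    by_contra h
    have := Nat.mul_le_mul (show 8 ≤ d by omega) (show 8 ≤ d by omega)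
    omega
  interval_cases d <;> omega

theorem heiTwo_degrees_six : 6 ∈ charDegrees (HeiTwo true) := by
  classical
  obtain ⟨d, hd, hsum, hk, hlin⟩ := degree_data 54 10 (HeiTwo.card_eq (e := true))
    (classes_of_pairs HeiTwo.card_eq (by norm_num) HeiTwo.comm_pairs)
  have hL : 6 ≤ (commutator (HeiTwo true)).index := by
    let f : HeiTwo true →* Multiplicative (ZMod 3) × (ZMod 3)ˣ :=
      MonoidHom.mk' (fun x => (Multiplicative.ofAdd x.b, x.s)) fun x y => by
        simp [HeiTwo.mul_def, HeiTwo.sb, ofAdd_add]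
    have hs : Function.Surjective f := fun y => ⟨⟨0, y.1.toAdd, 0, y.2⟩, rfl⟩
    have h6 : f.ker.index = 6 := by
      rw [Subgroup.index_ker, MonoidHom.range_eq_top.mpr hs, Subgroup.card_top, Nat.card_eq_fintype_card]
      decide +kernel
    have hle : commutator (HeiTwo true) ≤ f.ker := Abelianization.commutator_subset_ker f
    have := Nat.le_of_dvd (Nat.pos_of_ne_zero Subgroup.index_ne_zero_of_finite) (Subgroup.index_dvd_of_le hle)
    omega
  by_contra hno
  have hle : ∀ χ, d χ ≤ 3 := fun χ => by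
    have hsq : d χ * d χ ≤ 54 := hsum ▸ Finset.single_le_sum (f := fun χ => d χ * d χ) (fun _ _ => by positivity)
      (Finset.mem_univ χ)
    rcases heiTwo_degree_dvd χ (hd χ).1 (hd χ).2.2.2 hsq with h | h | h | h
    all_goals first | omega | exact absurd ⟨χ, (hd χ).1.trans h⟩ hno
  have hb : ∀ χ, d χ * d χ ≤ if d χ = 1 then 1 else 9 := fun χ => by
    split
    · rename_i h; rw [h]
    · exact Nat.mul_le_mul (hle χ) (hle χ)
  have h2 := Finset.sum_le_sum (s := (Finset.univ : Finset (IrrCharacter (HeiTwo true)))) fun χ _ => hb χ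
  rw [hsum, Finset.sum_ite, Finset.sum_const, Finset.sum_const] at h2
  have h3 := Finset.card_filter_add_card_filter_not (s := (Finset.univ : Finset (IrrCharacter (HeiTwo true))))
    (p := fun χ => d χ = 1)
  simp only [smul_eq_mul, mul_one] at h2
  omega

theorem heiTwo_degrees_small :
    2 ∈ charDegrees (HeiTwo false) ∧ 3 ∈ charDegrees (HeiTwo false) ∧
      ∀ d ∈ charDegrees (HeiTwo false), d = 1 ∨ d = 2 ∨ d = 3 := by
  classical
  obtain ⟨d, hd, hsum, hk, hlin⟩ := degree_data 54 10 (HeiTwo.card_eq (e := false))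
    (classes_of_pairs HeiTwo.card_eq (by norm_num) HeiTwo.comm_pairs)
  have hL : (commutator (HeiTwo false)).index ≤ 2 := by
    have key : ∀ g : HeiTwo false, g.s = 1 → ∃ (h : HeiTwo false) (r : ZMod 3),
        g = ⁅(⟨0, 0, 0, -1⟩ : HeiTwo false), h⁆ * ⁅(⟨1, 0, 0, 1⟩ : HeiTwo false), ⟨0, r, 0, 1⟩⁆ := by
      simp only [commutatorElement_def]
      decide +kernel
    let f : HeiTwo false →* (ZMod 3)ˣ := MonoidHom.mk' HeiTwo.s fun x y => rfl
    have hle : f.ker ≤ commutator (HeiTwo false) := fun g hg => by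
      obtain ⟨h, r, rfl⟩ := key g hg
      exact mul_mem (Subgroup.commutator_mem_commutator (Subgroup.mem_top _) (Subgroup.mem_top _))
        (Subgroup.commutator_mem_commutator (Subgroup.mem_top _) (Subgroup.mem_top _))
    have h2 : f.ker.index = 2 := by
      rw [Subgroup.index_ker, MonoidHom.range_eq_top.mpr (fun y => ⟨⟨0, 0, 0, y⟩, rfl⟩), Subgroup.card_top,
        Nat.card_eq_fintype_card]
      decide +kernel
    exact h2 ▸ Nat.le_of_dvd (by omega) (Subgroup.index_dvd_of_le hle)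
  have hsq : ∀ χ, d χ * d χ ≤ 54 := fun χ =>
    hsum ▸ Finset.single_le_sum (f := fun χ => d χ * d χ) (fun _ _ => by positivity) (Finset.mem_univ χ)
  have h6 : ∀ χ, d χ ≠ 6 := by
    intro χ hχ
    have h1 : ∀ ψ, (if ψ = χ then 36 else if d ψ = 1 then 1 else 4) ≤ d ψ * d ψ := fun ψ => by
      split
      · rename_i h; rw [h, hχ]
      split
      · rename_i h; rw [h]
      · exact Nat.mul_le_mul (show 2 ≤ d ψ by have := (hd ψ).2.2.1; omega)
          (show 2 ≤ d ψ by have := (hd ψ).2.2.1; omega)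
    have h2 := Finset.sum_le_sum (s := (Finset.univ : Finset (IrrCharacter (HeiTwo false)))) fun ψ _ => h1 ψ
    rw [hsum, ← Finset.add_sum_erase _ _ (Finset.mem_univ χ), if_pos rfl,
      Finset.sum_congr rfl (fun ψ hψ => if_neg (Finset.ne_of_mem_erase hψ)), Finset.sum_ite,
      Finset.sum_const, Finset.sum_const, smul_eq_mul, smul_eq_mul, mul_one] at h2
    have h3 := Finset.card_filter_add_card_filter_not (s := (Finset.univ : Finset (IrrCharacter (HeiTwo false))).erase χ)
      (p := fun ψ => d ψ = 1)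
    rw [Finset.card_erase_of_mem (Finset.mem_univ χ), hk] at h3
    have h4 : (((Finset.univ : Finset (IrrCharacter (HeiTwo false))).erase χ).filter fun ψ => d ψ = 1).card ≤
        (Finset.univ.filter fun ψ => d ψ = 1).card :=
      Finset.card_le_card (Finset.filter_subset_filter _ (Finset.erase_subset _ _))
    omega
  have h123 : ∀ χ, d χ = 1 ∨ d χ = 2 ∨ d χ = 3 := fun χ => by
    have := heiTwo_degree_dvd χ (hd χ).1 (hd χ).2.2.2 (hsq χ)
    have := h6 χ
    omega
  refine ⟨?_, ?_, fun m hm => ?_⟩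
  · by_contra hno
    have h1 : ∀ χ, d χ * d χ = if d χ = 1 then 1 else 9 := fun χ => by
      rcases h123 χ with h | h | h <;> rw [h]
      · rfl
      · exact absurd ⟨χ, (hd χ).1.trans h⟩ hno
      · rfl
    rw [Finset.sum_congr rfl fun χ _ => h1 χ, Finset.sum_ite, Finset.sum_const, Finset.sum_const,
      smul_eq_mul, smul_eq_mul, mul_one] at hsum
    have h3 := Finset.card_filter_add_card_filter_not (s := (Finset.univ : Finset (IrrCharacter (HeiTwo false))))
      (p := fun χ => d χ = 1)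
    omega
  · by_contra hno
    have h1 : ∀ χ, d χ * d χ ≤ 4 := fun χ => by
      rcases h123 χ with h | h | h
      · rw [h]; norm_num
      · rw [h]
      · exact absurd ⟨χ, (hd χ).1.trans h⟩ hno
    have h2 := Finset.sum_le_sum (s := (Finset.univ : Finset (IrrCharacter (HeiTwo false)))) fun χ _ => h1 χ
    rw [hsum, Finset.sum_const, hk] at h2
    norm_num at h2
  · obtain ⟨χ, rfl⟩ := hm
    rw [(hd χ).1]
    exact h123 χ

/-- The two soluble groups. -/
abbrev Model (e : Bool) : Type := (AffEight × HeiTwo e) × Multiplicative (ZMod 2)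

theorem model_card (e : Bool) : Nat.card (Model e) = 6048 := by
  rw [Nat.card_prod, Nat.card_prod, AffEight.card_eq, HeiTwo.card_eq, Nat.card_congr Multiplicative.toAdd,
    Nat.card_zmod]

theorem model_solvable (e : Bool) : Group.IsSolvable (Model e) := by
  haveI : Group.IsSolvable AffEight :=
    CfsgLib.FourOrbit.isSolvable_of_two_primes Nat.prime_two (by norm_num : (7 : ℕ).Prime) (by norm_num) fun s hs h => by
      rw [AffEight.card_eq, show 56 = 2 ^ 3 * 7 by norm_num] at h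
      rcases hs.dvd_mul.mp h with h | h
      · exact Or.inl ((Nat.prime_dvd_prime_iff_eq hs Nat.prime_two).mp (hs.dvd_of_dvd_pow h))
      · exact Or.inr ((Nat.prime_dvd_prime_iff_eq hs (by norm_num)).mp h)
  haveI : Group.IsSolvable (HeiTwo e) :=
    CfsgLib.FourOrbit.isSolvable_of_two_primes Nat.prime_two Nat.prime_three (by norm_num) fun s hs h => by
      rw [HeiTwo.card_eq, show 54 = 2 * 3 ^ 3 by norm_num] at h
      rcases hs.dvd_mul.mp h with h | h
      · exact Or.inl ((Nat.prime_dvd_prime_iff_eq hs Nat.prime_two).mp h)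
      · exact Or.inr ((Nat.prime_dvd_prime_iff_eq hs Nat.prime_three).mp (hs.dvd_of_dvd_pow h))
  infer_instance

theorem charDegrees_prod {A B : Type*} [Group A] [Group B] [Finite A] [Finite B] (m : ℕ) :
    m ∈ charDegrees (A × B) ↔ ∃ a ∈ charDegrees A, ∃ b ∈ charDegrees B, m = a * b := by
  constructor
  · rintro ⟨χ, rfl⟩
    obtain ⟨φ, ψ, hφ, hψ, he⟩ := (CfsgLib.Char.isIrr_prod_iff _).mp χ.2
    obtain ⟨a, ha, -⟩ := CfsgLib.Char.exists_degree_dvd_card hφ
    obtain ⟨b, hb, -⟩ := CfsgLib.Char.exists_degree_dvd_card hψ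
    refine ⟨a, ⟨⟨φ, hφ⟩, CfsgLib.Char.Extraspecial.charDegree_eq ha⟩, b,
      ⟨⟨ψ, hψ⟩, CfsgLib.Char.Extraspecial.charDegree_eq hb⟩, CfsgLib.Char.Extraspecial.charDegree_eq ?_⟩
    rw [he]
    simp [ha, hb]
  · rintro ⟨a, ⟨φ, rfl⟩, b, ⟨ψ, rfl⟩, rfl⟩
    obtain ⟨a, ha, -⟩ := CfsgLib.Char.exists_degree_dvd_card φ.2
    obtain ⟨b, hb, -⟩ := CfsgLib.Char.exists_degree_dvd_card ψ.2
    refine ⟨⟨_, (CfsgLib.Char.isIrr_prod_iff _).mpr ⟨_, _, φ.2, ψ.2, rfl⟩⟩, ?_⟩
    rw [CfsgLib.Char.Extraspecial.charDegree_eq ha, CfsgLib.Char.Extraspecial.charDegree_eq hb]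
    exact CfsgLib.Char.Extraspecial.charDegree_eq (by simp [ha, hb])

theorem model_degrees (e : Bool) (m : ℕ) :
    m ∈ charDegrees (Model e) ↔ ∃ a, (a = 1 ∨ a = 7) ∧ ∃ b ∈ charDegrees (HeiTwo e), m = a * b := by
  have hone : ∀ c ∈ charDegrees (Multiplicative (ZMod 2)), c = 1 := by
    rintro c ⟨χ, rfl⟩
    exact CfsgLib.Char.Extraspecial.charDegree_eq
      (by rw [CfsgLib.Char.degree_one_of_comm (fun a b => mul_comm a b) χ, Nat.cast_one])
  rw [charDegrees_prod]
  constructor
  · rintro ⟨x, hx, c, hc, rfl⟩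
    obtain ⟨a, ha, b, hb, rfl⟩ := (charDegrees_prod x).mp hx
    rw [affEight_degrees] at ha
    exact ⟨a, by simpa using ha, b, hb, by rw [hone c hc, mul_one]⟩
  · rintro ⟨a, ha, b, hb, rfl⟩
    refine ⟨a * b, (charDegrees_prod _).mpr ⟨a, ?_, b, hb, rfl⟩, 1,
      ⟨⟨fun _ => 1, CfsgLib.Char.isIrrCharacter_one⟩, CfsgLib.Char.Extraspecial.charDegree_eq (by norm_num)⟩,
      (mul_one _).symm⟩
    rw [affEight_degrees]
    simpa using ha

end CfsgLib.DegreeThreeThree
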