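import Cfsg.Agent.Lib.DegreeThreeThree.Models
import Cfsg.Agent.Lib.Char.Virtual
import Cfsg.Agent.Lib.Char.Induced
import Cfsg.Agent.Lib.Classical.UnitaryThreeInvol
import Cfsg.Agent.Lib.Classical.UnitarySimple
import Cfsg.Agent.Lib.Classical.UnitaryOrder

/-!
# Two degrees of `PSU(3,3)`, from the characters induced from a Borel subgroup
-/

set_option autoImplicit false
set_option linter.style.haveILetI false

namespace CfsgLib.DegreeThreeThree

open Matrix Cfsg
open CfsgLib.ClassicalAut (Unitary.Conj Unitary.herm_apply)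
open scoped MatrixGroups ComplexConjugate CfsgLib.Char

variable {F : Type*} [Field F] [Finite F] (K : Unitary.Conj F 3)

/-- The Hermitian form with two isotropic coordinate vectors. -/
def formJ (x y : Fin 3 → F) : F := x 0 * K.bar (y 2) + x 1 * K.bar (y 1) + x 2 * K.bar (y 0)

/-- Its special isometry group. -/
abbrev GJ : Subgroup (SpecialLinearGroup (Fin 3) F) := preserving (slToMat 3 F) (formJ K)

/-- The matrix of an element. -/
abbrev mat (g : GJ K) : Matrix (Fin 3) (Fin 3) F := (g.1 : Matrix (Fin 3) (Fin 3) F)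

omit [Finite F] in
theorem mat_ext {g h : GJ K} (e : mat K g = mat K h) : g = h := Subtype.ext (Subtype.ext e)

theorem formJ_entry (g : GJ K) (i j : Fin 3) :
    mat K g 0 i * K.bar (mat K g 2 j) + mat K g 1 i * K.bar (mat K g 1 j) +
      mat K g 2 i * K.bar (mat K g 0 j) = if i.val + j.val = 2 then 1 else 0 := by
  have h := g.2 (Pi.single i 1) (Pi.single j 1)
  change formJ K (mat K g *ᵥ Pi.single i 1) (mat K g *ᵥ Pi.single j 1) = _ at h
  simp only [mulVec_single_one, formJ, col_apply] at h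
  rw [h]
  fin_cases i <;> fin_cases j <;> simp [Pi.single_apply]

/-- The stabiliser of the first coordinate line. -/
def B : Subgroup (GJ K) where
  carrier := {g | mat K g 1 0 = 0 ∧ mat K g 2 0 = 0}
  mul_mem' {a b} ha hb := by
    refine ⟨?_, ?_⟩
    · show (mat K a * mat K b) 1 0 = 0
      simp [Matrix.mul_apply, Fin.sum_univ_three, ha.1, hb.1, hb.2]
    · show (mat K a * mat K b) 2 0 = 0
      simp [Matrix.mul_apply, Fin.sum_univ_three, ha.2, hb.1, hb.2]
  one_mem' := by simp [mat]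
  inv_mem' {a} ha := by
    have e : mat K a⁻¹ * mat K a = 1 := congrArg (mat K) (inv_mul_cancel a)
    have e0 := congrFun (congrFun e 0) 0
    have e1 := congrFun (congrFun e 1) 0
    have e2 := congrFun (congrFun e 2) 0
    simp [Matrix.mul_apply, Fin.sum_univ_three, ha.1, ha.2] at e0 e1 e2
    have h0 : mat K a 0 0 ≠ 0 := fun h => by simp [h] at e0
    exact ⟨e1.resolve_right h0, e2.resolve_right h0⟩

theorem mem_B {g : GJ K} : g ∈ B K ↔ mat K g 1 0 = 0 ∧ mat K g 2 0 = 0 := Iff.rfl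

theorem mem_B_of_zero {g : GJ K} (h : mat K g 2 0 = 0) : g ∈ B K := by
  have h00 := formJ_entry K g 0 0
  rw [h] at h00
  simpa [mem_B, h] using h00

theorem B_ne_zero (b : B K) : mat K b 0 0 ≠ 0 := by
  intro h
  have := formJ_entry K b 0 2
  simp [h, b.2.1, b.2.2] at this

theorem B_21 (b : B K) : mat K b 2 1 = 0 := by
  simpa [b.2.1, b.2.2, B_ne_zero K b] using formJ_entry K b 0 1

theorem B_22 (b : B K) : mat K b 2 2 = (K.bar (mat K b 0 0))⁻¹ := by
  have := formJ_entry K b 0 2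
  simp [b.2.1, b.2.2] at this
  have h := congrArg K.bar this
  rw [map_mul, K.bar_bar, map_one, mul_comm] at h
  exact eq_inv_of_mul_eq_one_left h

/-- The eigenvalue on the first coordinate vector. -/
noncomputable def μ : B K →* Fˣ where
  toFun b := Units.mk0 (mat K b 0 0) (B_ne_zero K b)
  map_one' := Units.ext (by simp [mat])
  map_mul' a b := Units.ext (by
    show (mat K (a : GJ K) * mat K (b : GJ K)) 0 0 = _
    simp [Matrix.mul_apply, Fin.sum_univ_three, b.2.1, b.2.2])

theorem μ_val (b : B K) : ((μ K b : Fˣ) : F) = mat K b 0 0 := rfl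

/-- A unipotent element. -/
def U (β γ : F) (h : γ + K.bar γ + β * K.bar β = 0) : GJ K :=
  ⟨⟨!![1, -K.bar β, γ; 0, 1, β; 0, 0, 1], by simp [det_fin_three]⟩, fun u v => by
    show formJ K (!![1, -K.bar β, γ; 0, 1, β; 0, 0, 1] *ᵥ u)
      (!![1, -K.bar β, γ; 0, 1, β; 0, 0, 1] *ᵥ v) = formJ K u v
    simp [formJ, mulVec, dotProduct, Fin.sum_univ_three, K.bar_bar]
    linear_combination (u 2 * K.bar (v 2)) * h⟩

theorem U_mem (β γ : F) (h) : U K β γ h ∈ B K := by simp [mem_B, U, mat]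

theorem μ_U (β γ : F) (h) : μ K ⟨U K β γ h, U_mem K β γ h⟩ = 1 := Units.ext (by simp [μ_val, U, mat])

theorem U_inv (β γ : F) (h) :
    ∃ h', (U K β γ h)⁻¹ = U K (-β) (K.bar γ) h' := by
  refine ⟨by simp [K.bar_bar]; linear_combination h, inv_eq_of_mul_eq_one_right (mat_ext K ?_)⟩
  show !![1, -K.bar β, γ; 0, 1, β; 0, 0, 1] * !![1, -K.bar (-β), K.bar γ; 0, 1, -β; 0, 0, 1] = 1
  ext i j
  fin_cases i <;> fin_cases j <;> simp [Matrix.mul_apply, Fin.sum_univ_three]
  linear_combination h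

/-- A diagonal element. -/
def T (m : Fˣ) : GJ K :=
  ⟨⟨diagonal ![(m : F), K.bar m / m, (K.bar m)⁻¹], by
    have := m.ne_zero
    have : K.bar (m : F) ≠ 0 := (map_ne_zero K.bar).2 m.ne_zero
    simp [det_diagonal, Fin.prod_univ_three]
    field_simp⟩, fun u v => by
    show formJ K (diagonal ![(m : F), K.bar m / m, (K.bar m)⁻¹] *ᵥ u)
      (diagonal ![(m : F), K.bar m / m, (K.bar m)⁻¹] *ᵥ v) = formJ K u v
    have := m.ne_zero
    have : K.bar (m : F) ≠ 0 := (map_ne_zero K.bar).2 m.ne_zero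
    simp [formJ, mulVec_diagonal, K.bar_bar]
    field_simp⟩

theorem mat_T (m : Fˣ) : mat K (T K m) = diagonal ![(m : F), K.bar m / m, (K.bar m)⁻¹] := rfl

theorem T_mem (m : Fˣ) : T K m ∈ B K := by simp [mem_B, mat_T]

theorem μ_T (m : Fˣ) : μ K ⟨T K m, T_mem K m⟩ = m := Units.ext (by simp [μ_val, mat_T])

theorem T_injective : Function.Injective (fun m : Fˣ => (⟨T K m, T_mem K m⟩ : B K)) := fun a b h => by
  simpa [μ_T] using congrArg (μ K) h

/-- The long Weyl element. -/
def w : GJ K :=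
  ⟨⟨!![0, 0, 1; 0, -1, 0; 1, 0, 0], by simp [det_fin_three]⟩, fun u v => by
    show formJ K (!![0, 0, 1; 0, -1, 0; 1, 0, 0] *ᵥ u) (!![0, 0, 1; 0, -1, 0; 1, 0, 0] *ᵥ v) = _
    simp [formJ, mulVec, dotProduct, Fin.sum_univ_three]
    ring⟩

theorem w_sq : w K * w K = 1 := mat_ext K (by
  show !![(0 : F), 0, 1; 0, -1, 0; 1, 0, 0] * !![0, 0, 1; 0, -1, 0; 1, 0, 0] = 1
  ext i j; fin_cases i <;> fin_cases j <;> simp [Matrix.mul_apply, Fin.sum_univ_three])

theorem w_inv : (w K)⁻¹ = w K := inv_eq_of_mul_eq_one_right (w_sq K)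

theorem w_not_mem : w K ∉ B K := fun h => by simpa [w, mat] using h.2

theorem wbw_entry (g : GJ K) :
    mat K (w K * g * w K) 0 0 = mat K g 2 2 ∧ mat K (w K * g * w K) 1 0 = -mat K g 1 2 ∧
      mat K (w K * g * w K) 2 0 = mat K g 0 2 := by
  have e : mat K (w K * g * w K) =
      !![(0 : F), 0, 1; 0, -1, 0; 1, 0, 0] * mat K g * !![0, 0, 1; 0, -1, 0; 1, 0, 0] := rfl
  simp [e, Matrix.mul_apply, Matrix.vecMul, dotProduct, Fin.sum_univ_three]

/-- `B ∩ wBw` is the torus. -/
theorem eq_T_of_conj_mem (b : B K) (h : w K * b * w K ∈ B K) : ⟨T K (μ K b), T_mem K _⟩ = b := by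
  obtain ⟨e0, e1, e2⟩ := wbw_entry K b
  have h12 : mat K b 1 2 = 0 := by simpa [e1] using h.1
  have h02 : mat K b 0 2 = 0 := by simpa [e2] using h.2
  have h0 := B_ne_zero K b
  have h22 := B_22 K b
  have h21 := B_21 K b
  have hb : K.bar (mat K b 0 0) ≠ 0 := (map_ne_zero K.bar).2 h0
  have h01 : mat K b 0 1 = 0 := by
    have := formJ_entry K b 1 2
    simpa [h12, h21, h02, h22, hb, K.bar_bar, h0] using this
  have hd : mat K b 0 0 * mat K b 1 1 * mat K b 2 2 = 1 := by
    have := b.1.1.2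
    change (mat K b).det = 1 at this
    rw [det_fin_three] at this
    simpa [b.2.1, b.2.2, h12, h02, h01, h21] using this
  refine Subtype.ext (mat_ext K ?_)
  rw [mat_T, μ_val]
  ext i j
  fin_cases i <;> fin_cases j <;> simp [b.2.1, b.2.2, h12, h02, h01, h21, h22]
  rw [h22] at hd
  field_simp at hd ⊢
  linear_combination -hd

theorem wTw (m : Fˣ) : ∃ h : w K * T K m * w K ∈ B K,
    μ K ⟨_, h⟩ = (Units.map (K.bar : F →* F) m)⁻¹ := by
  obtain ⟨e0, e1, e2⟩ := wbw_entry K (T K m)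
  refine ⟨⟨by rw [e1]; simp [mat_T], by rw [e2]; simp [mat_T]⟩, Units.ext ?_⟩
  rw [μ_val, e0]
  simp [mat_T]

/-- Bruhat decomposition. -/
theorem exists_bruhat {x : GJ K} (hx : x ∉ B K) : ∃ b₁ b₂ : B K, x = b₁ * w K * b₂ := by
  set c := mat K x 2 0 with hc
  have hc0 : c ≠ 0 := fun h => hx (mem_B_of_zero K h)
  have hcb : K.bar c ≠ 0 := (map_ne_zero K.bar).2 hc0
  set β := mat K x 1 0 / c
  set γ := mat K x 0 0 / c
  have h : γ + K.bar γ + β * K.bar β = 0 := by
    have := formJ_entry K x 0 0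
    simp [← hc] at this
    simp only [β, γ, map_div₀]
    field_simp
    linear_combination this
  obtain ⟨h', hi⟩ := U_inv K β γ h
  refine ⟨⟨U K β γ h, U_mem K β γ h⟩, ⟨w K * (U K β γ h)⁻¹ * x, ?_⟩, ?_⟩
  · rw [hi]
    have e : mat K (w K * U K (-β) (K.bar γ) h' * x) =
      !![(0 : F), 0, 1; 0, -1, 0; 1, 0, 0] *
        !![1, -K.bar (-β), K.bar γ; 0, 1, -β; 0, 0, 1] * mat K x := rfl
    have hx1 : mat K x 1 0 = β * c := by simp [β, hc0]
    have hx0 : mat K x 0 0 = γ * c := by simp [γ, hc0]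
    refine ⟨?_, ?_⟩ <;> simp [e, Matrix.mul_apply, Fin.sum_univ_three, hx1, hx0, ← hc]
    linear_combination c * h
  · show x = U K β γ h * w K * (w K * (U K β γ h)⁻¹ * x)
    rw [mul_assoc (U K β γ h), ← mul_assoc (w K), ← mul_assoc (w K), w_sq, one_mul, mul_inv_cancel_left]

/-- The fibres of `(p, q) ↦ p w q`. -/
theorem fiber_card {G : Type*} [Group G] (H : Subgroup G) (v : G) (c₁ c₂ : H) :
    Nat.card {p : H × H // (p.1 : G) * v * p.2 = c₁ * v * c₂} =
      Nat.card {d : H // v⁻¹ * d * v ∈ H} := by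
  have key : ∀ p : H × H, (p.1 : G) * v * p.2 = c₁ * v * c₂ →
      v⁻¹ * ((c₁⁻¹ * p.1 : H) : G) * v = ((c₂ * p.2⁻¹ : H) : G) := fun p hp => by
    simp only [Subgroup.coe_mul, Subgroup.coe_inv]
    calc v⁻¹ * ((c₁ : G)⁻¹ * p.1) * v = v⁻¹ * (c₁ : G)⁻¹ * ((p.1 : G) * v * p.2) * (p.2 : G)⁻¹ := by group
      _ = c₂ * (p.2 : G)⁻¹ := by rw [hp]; group
  refine Nat.card_congr
    { toFun := fun p => ⟨c₁⁻¹ * p.1.1, key p.1 p.2 ▸ (c₂ * p.1.2⁻¹).2⟩
      invFun := fun d => ⟨(c₁ * d.1, (⟨v⁻¹ * d.1 * v, d.2⟩ : H)⁻¹ * c₂), by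
        simp only [Subgroup.coe_mul, Subgroup.coe_inv]; group⟩
      left_inv := fun ⟨p, hp⟩ => Subtype.ext (Prod.ext (mul_inv_cancel_left _ _) (Subtype.ext ?_))
      right_inv := fun d => Subtype.ext (inv_mul_cancel_left _ _) }
  simp only [Subgroup.coe_mul, Subgroup.coe_inv]
  calc _ = v⁻¹ * (p.1 : G)⁻¹ * (c₁ * v * c₂) := by group
    _ = _ := by rw [← hp]; group

variable [Fintype (GJ K)] [Fintype (B K)]

theorem bruhat_fiber {x : GJ K} (hx : x ∉ B K) :
    Nat.card {p : B K × B K // (p.1 : GJ K) * w K * p.2 = x} = Nat.card Fˣ := by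
  obtain ⟨c₁, c₂, rfl⟩ := exists_bruhat K hx
  rw [fiber_card, w_inv]
  exact (Nat.card_eq_of_bijective
    (fun m : Fˣ => (⟨⟨T K m, T_mem K m⟩, (wTw K m).1⟩ : {d : B K // w K * d * w K ∈ B K}))
    ⟨fun m n h => T_injective K (congrArg Subtype.val h),
      fun d => ⟨μ K d.1, Subtype.ext (eq_T_of_conj_mem K d.1 d.2)⟩⟩).symm

theorem card_eqs (hG : Nat.card (GJ K) = 6048) : Nat.card (B K) = 216 ∧ (B K).index = 28 := by
  classical
  let f : B K × B K → {x : GJ K // x ∉ B K} := fun p => ⟨p.1 * w K * p.2, fun h => w_not_mem K (by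
    have := mul_mem (mul_mem (inv_mem p.1.2) h) (inv_mem p.2.2)
    simpa [mul_assoc] using this)⟩
  have hF : Nat.card Fˣ = 8 := by rw [Nat.card_units, K.card]; norm_num
  have h1 : Nat.card (B K × B K) = Nat.card {x : GJ K // x ∉ B K} * 8 := by
    rw [← Nat.card_congr (Equiv.sigmaFiberEquiv f), Nat.card_sigma,
      Finset.sum_congr rfl fun x _ => ?_, Finset.sum_const, Finset.card_univ, smul_eq_mul,
      ← Nat.card_eq_fintype_card]
    rw [← hF, ← bruhat_fiber K x.2]
    exact Nat.card_congr (Equiv.subtypeEquivRight fun p => by simp [f, Subtype.ext_iff])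
  have h2 : Nat.card {x : GJ K // x ∉ B K} = 6048 - Nat.card (B K) := by
    rw [Nat.card_eq_fintype_card, Fintype.card_subtype_compl, ← hG, Nat.card_eq_fintype_card,
      Nat.card_eq_fintype_card]
  have h3 := (B K).card_mul_index
  rw [hG] at h3
  rw [Nat.card_prod, h2] at h1
  set b := Nat.card (B K)
  have hb : b = 216 := by
    rcases lt_trichotomy b 216 with h | h | h
    · exfalso
      have := Nat.mul_lt_mul'' h h
      omega
    · exact h
    · exfalso
      have := Nat.mul_lt_mul'' h h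
      omega
  refine ⟨hb, ?_⟩
  rw [hb] at h3
  omega

variable (ψ : Fˣ →* ℂˣ)

/-- The linear characters of `B` through `μ`. -/
noncomputable def θ (j : ℕ) : B K → ℂ := fun b => ((ψ (μ K b) : ℂˣ) : ℂ) ^ j

theorem θ_irr (j : ℕ) : IsIrrCharacter (B K) (θ K ψ j) :=
  CfsgLib.Char.isIrrCharacter_monoidHom ((powMonoidHom j).comp (ψ.comp (μ K)))

theorem θ_conj_inv (j : ℕ) (b c : B K) : θ K ψ j (c⁻¹ * b * c) = θ K ψ j b := by
  simp only [θ, map_mul, map_inv, inv_mul_cancel_comm]

theorem ext_conj_inv (j : ℕ) (g : GJ K) (c : B K) :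
    extendByZero (B K) (θ K ψ j) ((c : GJ K)⁻¹ * g * c) = extendByZero (B K) (θ K ψ j) g := by
  by_cases h : g ∈ B K
  · rw [CfsgLib.Char.extendByZero_mem _ _ h,
      CfsgLib.Char.extendByZero_mem _ _ (mul_mem (mul_mem (inv_mem c.2) h) c.2)]
    exact θ_conj_inv K ψ j ⟨g, h⟩ c
  · rw [CfsgLib.Char.extendByZero_notMem _ _ h, CfsgLib.Char.extendByZero_notMem]
    intro h'
    refine h ?_
    have := mul_mem (mul_mem c.2 h') (inv_mem c.2)
    simpa [mul_assoc] using this

variable {ψ} (hψ : Function.Injective ψ)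

include K hψ

theorem pow_trivial_iff (k : ℕ) : (∀ m, ψ m ^ k = 1) ↔ 8 ∣ k := by
  have h8 : Nat.card Fˣ = 8 := by rw [Nat.card_units, K.card]; norm_num
  obtain ⟨g, hg⟩ := IsCyclic.exists_ofOrder_eq_natCard (α := Fˣ)
  refine ⟨fun h => ?_, fun h m => ?_⟩
  · have := h g
    rwa [← map_pow, ← map_one ψ, hψ.eq_iff, ← orderOf_dvd_iff_pow_eq_one, hg, h8] at this
  · obtain ⟨l, rfl⟩ := h
    rw [← map_pow, pow_mul, ← h8, pow_card_eq_one', one_pow, map_one]

theorem conj_θval (m : Fˣ) : conj ((ψ m : ℂˣ) : ℂ) = (((ψ m : ℂˣ) : ℂ))⁻¹ := by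
  have h8 : Nat.card Fˣ = 8 := by rw [Nat.card_units, K.card]; norm_num
  have h : ((ψ m : ℂˣ) : ℂ) ^ 8 = 1 := by
    rw [← Units.val_pow_eq_pow_val, ← map_pow, ← h8, pow_card_eq_one', map_one, Units.val_one]
  exact (Complex.inv_eq_conj (Complex.norm_eq_one_of_pow_eq_one h (by norm_num))).symm

theorem inner_eq (hG : Nat.card (GJ K) = 6048) (i j : ℕ) :
    classInner (indFun (B K) (θ K ψ i)) (indFun (B K) (θ K ψ j)) =
      classInner (θ K ψ i) (θ K ψ j) + if 8 ∣ i + 3 * j then 1 else 0 := by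
  classical
  obtain ⟨hB, -⟩ := card_eqs K hG
  set E := extendByZero (B K) (θ K ψ j)
  rw [CfsgLib.Char.frobenius_reciprocity _ _ (CfsgLib.Char.isClassFunction_indFun _ _)]
  simp only [classInner, indFun, map_mul, map_inv₀, map_natCast, map_sum]
  rw [Finset.sum_congr rfl fun b _ => by rw [mul_left_comm, Finset.mul_sum], ← Finset.mul_sum, Finset.sum_comm,
    ← Finset.sum_filter_add_sum_filter_not Finset.univ (fun x => x ∈ B K), mul_add, mul_add]
  congr 1
  · rw [Finset.sum_congr rfl fun x hx => Finset.sum_congr rfl fun b _ => by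
        rw [ext_conj_inv K ψ j (b : GJ K) ⟨x, (Finset.mem_filter.mp hx).2⟩,
          CfsgLib.Char.extendByZero_coe],
      Finset.sum_const, nsmul_eq_mul, ← Fintype.card_subtype, ← Nat.card_eq_fintype_card]
    rw [show Nat.card {x : GJ K // x ∈ B K} = Nat.card (B K) from rfl, hB]
    norm_num
    ring
  · have hC : ∀ x ∈ Finset.univ.filter (fun x : GJ K => x ∉ B K),
        ∑ b : B K, θ K ψ i b * conj (E (x⁻¹ * b * x)) = if 8 ∣ i + 3 * j then 8 else 0 := by
      intro x hx
      obtain ⟨b₁, b₂, rfl⟩ := exists_bruhat K (Finset.mem_filter.mp hx).2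
      rw [← Fintype.sum_equiv (MulAut.conj b₁).toEquiv
        (fun d => θ K ψ i d * conj (E (w K * d * w K))) _ fun d => ?_]
      · have hF : Fintype Fˣ := Fintype.ofFinite _
        rw [← Fintype.sum_of_injective (fun m : Fˣ => (⟨T K m, T_mem K m⟩ : B K)) (T_injective K)
          (fun m => ((((powMonoidHom (i + 3 * j)).comp ψ) m : ℂˣ) : ℂ)) _ ?_ ?_]
        · have hsum := sum_hom_units ((Units.coeHom ℂ).comp ((powMonoidHom (i + 3 * j)).comp ψ))
          refine hsum.trans ?_
          have hiff : ((Units.coeHom ℂ).comp ((powMonoidHom (i + 3 * j)).comp ψ) = 1) ↔ 8 ∣ i + 3 * j := by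
            rw [← pow_trivial_iff K hψ]
            simp [MonoidHom.ext_iff, ← Units.val_inj]
          rw [if_congr hiff rfl rfl, ← Nat.card_eq_fintype_card, Nat.card_units, K.card]
          norm_num
        · intro d hd
          rw [show E (w K * d * w K) = 0 from CfsgLib.Char.extendByZero_notMem _ _ fun h =>
            hd ⟨_, eq_T_of_conj_mem K d h⟩]
          simp
        · intro m
          obtain ⟨h, hμ⟩ := wTw K m
          rw [show E (w K * T K m * w K) = θ K ψ j ⟨_, h⟩ from CfsgLib.Char.extendByZero_mem _ _ h]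
          have hbar : Units.map (K.bar : F →* F) m = m ^ 3 := Units.ext (by simp [K.bar_apply])
          simp [θ, μ_T, hμ, hbar, conj_θval K hψ, pow_add, pow_mul]
      · have e1 : θ K ψ i ((MulAut.conj b₁) d) = θ K ψ i d := by
          simp only [θ, MulAut.conj_apply, map_mul, map_inv]
          rw [mul_right_comm, mul_inv_cancel, one_mul]
        have e2 : E ((b₁ * w K * b₂ : GJ K)⁻¹ * ((MulAut.conj b₁) d : B K) * (b₁ * w K * b₂)) =
            E (w K * d * w K) := by
          refine Eq.trans ?_ (ext_conj_inv K ψ j (w K * d * w K) b₂)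
          show extendByZero (B K) (θ K ψ j) _ = _
          congr 1
          simp only [MulAut.conj_apply, Subgroup.coe_mul, Subgroup.coe_inv, _root_.mul_inv_rev, w_inv]
          group
        exact (congrArg₂ (fun u v => u * conj v) e1 e2).symm
    rw [Finset.sum_congr rfl hC, Finset.sum_const, nsmul_eq_mul, ← Fintype.card_subtype,
      Fintype.card_subtype_compl, ← Nat.card_eq_fintype_card, ← Nat.card_eq_fintype_card, hG]
    rw [show Nat.card {x : GJ K // x ∈ B K} = Nat.card (B K) from rfl, hB]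
    split <;> norm_num

theorem θ_inner_ne {i j : ℕ} (hi : i < 8) (hj : j < 8) (h : i ≠ j) :
    classInner (θ K ψ i) (θ K ψ j) = 0 := by
  refine CfsgLib.Char.classInner_irr_ne (θ_irr K ψ i) (θ_irr K ψ j) fun he => h ?_
  obtain ⟨g, hg⟩ := IsCyclic.exists_ofOrder_eq_natCard (α := Fˣ)
  have h8 : Nat.card Fˣ = 8 := by rw [Nat.card_units, K.card]; norm_num
  have := congrFun he ⟨T K g, T_mem K g⟩
  simp only [θ, μ_T] at this
  have e : g ^ i = g ^ j := hψ (Units.ext (by simpa using this))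
  exact pow_injOn_Iio_orderOf (by simp [hg, h8, hi]) (by simp [hg, h8, hj]) e

theorem degree_28 (hG : Nat.card (GJ K) = 6048) :
    ∃ χ : GJ K → ℂ, IsIrrCharacter (GJ K) χ ∧ χ 1 = (28 : ℕ) := by
  refine ⟨indFun (B K) (θ K ψ 1), CfsgLib.Char.isIrr_of_norm_one
    (CfsgLib.Char.isCharacter_indFun _ (CfsgLib.Char.isCharacter_of_isIrr (θ_irr K ψ 1))) ?_, ?_⟩
  · rw [inner_eq K hψ hG, CfsgLib.Char.classInner_irr_self (θ_irr K ψ 1)]
    simp
  · rw [CfsgLib.Char.indFun_one, (card_eqs K hG).2]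
    simp [θ]

omit hψ [Fintype (GJ K)] [Fintype (B K)] in
theorem isConj_inv (h3 : (3 : F) = 0) (b : B K) (hb : μ K b = 1) :
    IsConj (b : GJ K) (b : GJ K)⁻¹ := by
  have h00 : mat K b 0 0 = 1 := by rw [← μ_val, hb, Units.val_one]
  have h22 : mat K b 2 2 = 1 := by rw [B_22, h00, map_one, inv_one]
  have h21 := B_21 K b
  have h11 : mat K b 1 1 = 1 := by
    have := b.1.1.2
    change (mat K b).det = 1 at this
    rw [det_fin_three] at this
    simpa [b.2.1, b.2.2, h00, h21, h22] using this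
  set β := mat K b 1 2 with hβ
  set γ := mat K b 0 2 with hγ
  have h01 : mat K b 0 1 = -K.bar β := by
    have := formJ_entry K b 1 2
    simp [h22, h21, h11, ← hβ] at this
    linear_combination this
  have h : γ + K.bar γ + β * K.bar β = 0 := by
    have := formJ_entry K b 2 2
    simp [h22, ← hβ, ← hγ] at this
    linear_combination this
  have hb' : (b : GJ K) = U K β γ h := mat_ext K (by
    ext i j
    fin_cases i <;> fin_cases j <;>
      simp [U, b.2.1, b.2.2, h00, h11, h22, h21, h01, ← hβ, ← hγ] <;> rfl)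
  obtain ⟨h', hi⟩ := U_inv K β γ h
  rw [hb', hi, isConj_iff]
  by_cases hβ0 : β = 0
  · obtain ⟨a, ha⟩ := K.exists_norm (-1) (by simp)
    have ha0 : a ≠ 0 := fun h => by simp [h] at ha
    refine ⟨T K (Units.mk0 a ha0), mul_inv_eq_of_eq_mul (mat_ext K ?_)⟩
    show diagonal ![a, K.bar a / a, (K.bar a)⁻¹] * !![1, -K.bar β, γ; 0, 1, β; 0, 0, 1] =
      !![1, -K.bar (-β), K.bar γ; 0, 1, -β; 0, 0, 1] * diagonal ![a, K.bar a / a, (K.bar a)⁻¹]
    have hab : K.bar a ≠ 0 := (map_ne_zero K.bar).2 ha0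
    simp only [hβ0] at h ⊢
    ext i j
    fin_cases i <;> fin_cases j <;> simp [Matrix.diagonal_mul, Matrix.mul_diagonal]
    simp at h
    field_simp
    linear_combination γ * ha - h
  · have hβb : K.bar β ≠ 0 := (map_ne_zero K.bar).2 hβ0
    obtain ⟨δ, k1⟩ : ∃ δ, K.bar β * δ = K.bar γ - γ := ⟨(K.bar γ - γ) / K.bar β, by field_simp⟩
    have k2 : β * K.bar δ = γ - K.bar γ := by
      have := congrArg K.bar k1
      simpa [map_mul, map_sub, K.bar_bar] using this
    have hδ' : (δ * K.bar δ) + K.bar (δ * K.bar δ) + δ * K.bar δ = 0 := by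
      rw [map_mul, K.bar_bar]
      linear_combination (δ * K.bar δ) * h3
    have hT : mat K (T K (-1)) = !![-1, 0, 0; 0, 1, 0; 0, 0, -1] := by
      rw [mat_T]
      ext i j
      fin_cases i <;> fin_cases j <;> simp
    refine ⟨U K δ (δ * K.bar δ) hδ' * T K (-1), mul_inv_eq_of_eq_mul (mat_ext K ?_)⟩
    show !![1, -K.bar δ, δ * K.bar δ; 0, 1, δ; 0, 0, 1] * mat K (T K (-1)) *
        !![1, -K.bar β, γ; 0, 1, β; 0, 0, 1] =
      !![1, -K.bar (-β), K.bar γ; 0, 1, -β; 0, 0, 1] *
        (!![1, -K.bar δ, δ * K.bar δ; 0, 1, δ; 0, 0, 1] * mat K (T K (-1)))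
    rw [hT]
    ext i j
    fin_cases i <;> fin_cases j <;>
      simp [Matrix.mul_apply, Fin.sum_univ_three] <;> try ring
    linear_combination k1 - k2 + (K.bar γ - γ) * h3

omit hψ [Fintype (GJ K)] [Fintype (B K)] in
theorem kernel_ne_inv (h3 : (3 : F) = 0) (b : B K) (hb : μ K b = 1) (h1 : b ≠ 1) : b⁻¹ ≠ b := by
  intro h
  refine h1 ?_
  have e : b * b = 1 := by nth_rw 1 [← h]; exact inv_mul_cancel b
  have e' : mat K (b : GJ K) * mat K (b : GJ K) = 1 := congrArg (fun x : B K => mat K (x : GJ K)) e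
  have h00 : mat K b 0 0 = 1 := by rw [← μ_val, hb, Units.val_one]
  have h22 : mat K b 2 2 = 1 := by rw [B_22, h00, map_one, inv_one]
  have h21 := B_21 K b
  have h11 : mat K b 1 1 = 1 := by
    have := b.1.1.2
    change (mat K b).det = 1 at this
    rw [det_fin_three] at this
    simpa [b.2.1, b.2.2, h00, h21, h22] using this
  have h01 : mat K b 0 1 = 0 := by
    have := congrFun (congrFun e' 0) 1
    simp [Matrix.mul_apply, Fin.sum_univ_three, b.2.1, b.2.2, h00, h11, h22, h21] at this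
    linear_combination -this + (mat K b 0 1) * h3
  have h12 : mat K b 1 2 = 0 := by
    have := congrFun (congrFun e' 1) 2
    simp [Matrix.mul_apply, Fin.sum_univ_three, b.2.1, b.2.2, h00, h11, h22, h21] at this
    linear_combination -this + (mat K b 1 2) * h3
  have h02 : mat K b 0 2 = 0 := by
    have := congrFun (congrFun e' 0) 2
    simp [Matrix.mul_apply, Fin.sum_univ_three, b.2.1, b.2.2, h00, h11, h22, h21, h01, h12] at this
    linear_combination -this + (mat K b 0 2) * h3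
  refine Subtype.ext (mat_ext K ?_)
  show mat K b = 1
  ext i j
  fin_cases i <;> fin_cases j <;> simp [b.2.1, b.2.2, h00, h11, h22, h21, h01, h12, h02]

/-- A constituent of the reducible induced character has odd degree. -/
theorem odd_of_constituent (hG : Nat.card (GJ K) = 6048) (h3 : (3 : F) = 0) {χ : GJ K → ℂ} {d : ℕ}
    (hχ : IsCharacter (GJ K) χ) (hd : χ 1 = d)
    (h4 : ∀ j < 8, classInner (θ K ψ j) (fun b : B K => χ b) = if j = 4 then 1 else 0) : Odd d := by
  classical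
  obtain ⟨hB, -⟩ := card_eqs K hG
  have hsum : ∑ b : B K, (if μ K b = 1 then χ b else 0) = 27 := by
    have e : ∀ b : B K, ∑ j ∈ Finset.range 8, θ K ψ j b = if μ K b = 1 then 8 else 0 := by
      intro b
      split
      · rename_i h; simp [θ, h]
      · rename_i h
        have hne : ((ψ (μ K b) : ℂˣ) : ℂ) ≠ 1 := fun e => h (hψ (by rw [map_one]; exact Units.ext e))
        simp only [θ]
        rw [geom_sum_eq hne, ← Units.val_pow_eq_pow_val, ← map_pow]
        have h8 : Nat.card Fˣ = 8 := by rw [Nat.card_units, K.card]; norm_num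
        rw [← h8, pow_card_eq_one']
        simp
    have e2 : ∑ j ∈ Finset.range 8, classInner (θ K ψ j) (fun b : B K => χ b) = 1 := by
      rw [Finset.sum_congr rfl fun j hj => h4 j (Finset.mem_range.mp hj)]
      simp
    rw [← CfsgLib.Char.classInner_sum_left, classInner, hB] at e2
    simp only [Finset.sum_apply, e, ite_mul, zero_mul] at e2
    have e3 := congrArg conj e2
    simp only [map_mul, map_inv₀, map_natCast, map_sum, apply_ite (conj : ℂ → ℂ), map_zero, map_one,
      Complex.conj_conj, map_ofNat] at e3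
    rw [show ∑ b : B K, (if μ K b = 1 then 8 * χ b else 0) =
      8 * ∑ b : B K, (if μ K b = 1 then χ b else 0) by
        rw [Finset.mul_sum]; simp] at e3
    push_cast at e3
    linear_combination 27 * e3
  set P := Finset.univ.filter fun b : B K => μ K b = 1
  rw [← Finset.sum_filter, ← Finset.add_sum_erase _ _ (show (1 : B K) ∈ P by simp [P])] at hsum
  simp only [OneMemClass.coe_one, hd] at hsum
  set r := Fintype.equivFin (B K)
  rw [← Finset.sum_filter_add_sum_filter_not (P.erase 1) (fun b => r b < r b⁻¹)] at hsum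
  have heq : ∑ b ∈ (P.erase 1).filter (fun b => ¬ r b < r b⁻¹), χ (b : GJ K) =
      ∑ b ∈ (P.erase 1).filter (fun b => r b < r b⁻¹), χ (b : GJ K) := by
    refine Finset.sum_nbij' (fun b => b⁻¹) (fun b => b⁻¹) ?_ ?_ (fun b _ => inv_inv b)
      (fun b _ => inv_inv b) ?_
    · intro b hb
      simp [P] at hb ⊢
      refine ⟨⟨hb.1.1, hb.1.2⟩, lt_of_le_of_ne hb.2 fun e => kernel_ne_inv K h3 b hb.1.2 hb.1.1 (r.injective e)⟩
    · intro b hb
      simp [P] at hb ⊢
      exact ⟨⟨hb.1.1, hb.1.2⟩, hb.2.le⟩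
    · intro b hb
      simp [P] at hb
      exact (CfsgLib.Char.eq_of_isConj (CfsgLib.Char.isClassFunction_of_isCharacter hχ)
        (by simpa using isConj_inv K h3 b hb.1.2))
  rw [heq] at hsum
  set z := ∑ b ∈ (P.erase 1).filter (fun b => r b < r b⁻¹), χ (b : GJ K) with hz
  have hint : IsIntegral ℤ (((27 - (d : ℚ)) / 2 : ℚ) : ℂ) := by
    have : (((27 - (d : ℚ)) / 2 : ℚ) : ℂ) = z := by push_cast; linear_combination (-(1 : ℂ) / 2) * hsum
    rw [this, hz]
    exact IsIntegral.sum _ fun b _ => CfsgLib.Char.isIntegral_value hχ _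
  obtain ⟨n, hn⟩ := CfsgLib.Char.exists_int_of_isIntegral_rat hint
  have : (27 : ℤ) - d = 2 * n := by
    have : (27 : ℚ) - d = 2 * n := by linarith
    exact_mod_cast this
  exact Nat.odd_iff.mpr (by omega)

theorem degree_21 (hG : Nat.card (GJ K) = 6048) (h3 : (3 : F) = 0) (hperf : commutator (GJ K) = ⊤) :
    ∃ χ : GJ K → ℂ, IsIrrCharacter (GJ K) χ ∧ χ 1 = (21 : ℕ) := by
  classical
  set f := indFun (B K) (θ K ψ 4)
  have hf : IsCharacter (GJ K) f :=
    CfsgLib.Char.isCharacter_indFun _ (CfsgLib.Char.isCharacter_of_isIrr (θ_irr K ψ 4))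
  obtain ⟨m, hm⟩ := CfsgLib.Char.exists_multiplicities hf
  have h2 : ∑ χ, m χ * m χ = 2 := by
    have := inner_eq K hψ hG 4 4
    rw [CfsgLib.Char.classInner_irr_self (θ_irr K ψ 4)] at this
    change classInner f f = _ at this
    rw [hm, CfsgLib.Char.classInner_sum_smul_sum_smul] at this
    simp at this
    norm_num at this
    exact_mod_cast this
  have hm1 : ∀ χ, m χ = 0 ∨ m χ = 1 := fun χ => by
    by_contra hh
    have h4 : 2 * 2 ≤ m χ * m χ := Nat.mul_le_mul (by omega) (by omega)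
    have := Finset.single_le_sum (f := fun χ => m χ * m χ) (fun _ _ => Nat.zero_le _) (Finset.mem_univ χ)
    omega
  have hcard : (Finset.univ.filter fun χ => m χ = 1).card = 2 := by
    rw [← h2, Finset.card_filter]
    exact Finset.sum_congr rfl fun χ _ => by rcases hm1 χ with h | h <;> simp [h]
  have hf' : f = ∑ χ ∈ Finset.univ.filter (fun χ => m χ = 1), (χ : GJ K → ℂ) := by
    rw [hm, Finset.sum_filter]
    exact Finset.sum_congr rfl fun χ _ => by rcases hm1 χ with h | h <;> simp [h]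
  obtain ⟨a, b, hab, hs⟩ := Finset.card_eq_two.mp hcard
  rw [hs, Finset.sum_pair hab] at hf'
  have key : ∀ (c : IrrCharacter (GJ K)), c = a ∨ c = b → ∀ j < 8,
      classInner (θ K ψ j) (fun x : B K => (c : GJ K → ℂ) x) = if j = 4 then 1 else 0 := by
    intro c hc j hj
    rw [← CfsgLib.Char.frobenius_reciprocity _ _ (CfsgLib.Char.isClassFunction_irr c)]
    split
    · subst_vars
      show classInner f _ = 1
      rw [hf', CfsgLib.Char.classInner_add_left, CfsgLib.Char.classInner_coe,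
        CfsgLib.Char.classInner_coe]
      rcases hc with rfl | rfl <;> simp [hab, Ne.symm hab]
    · rename_i hj4
      have h0 : classInner (indFun (B K) (θ K ψ j)) f = 0 := by
        rw [inner_eq K hψ hG, θ_inner_ne K hψ hj (by norm_num) hj4,
          if_neg (by omega), add_zero]
      rw [hf', CfsgLib.Char.classInner_add_right] at h0
      have hc' := CfsgLib.Char.isCharacter_indFun (B K)
        (CfsgLib.Char.isCharacter_of_isIrr (θ_irr K ψ j))
      obtain ⟨na, ha⟩ := CfsgLib.Char.exists_nat_classInner hc' (CfsgLib.Char.isCharacter_of_isIrr a.2)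
      obtain ⟨nb, hb⟩ := CfsgLib.Char.exists_nat_classInner hc' (CfsgLib.Char.isCharacter_of_isIrr b.2)
      rw [ha, hb] at h0
      have : na + nb = 0 := by exact_mod_cast h0
      rcases hc with rfl | rfl
      · rw [ha, show na = 0 by omega, Nat.cast_zero]
      · rw [hb, show nb = 0 by omega, Nat.cast_zero]
  obtain ⟨d, hd, hsum, -, hlin⟩ := degree_data (G := GJ K) _ _ hG rfl
  have hone : ∀ c : IrrCharacter (GJ K), c = a ∨ c = b → d c ≠ 1 := by
    intro c hc h1
    rw [hperf, Subgroup.index_top] at hlin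
    obtain ⟨u, hu⟩ := Finset.card_eq_one.mp hlin
    have hu1 : c = u := Finset.mem_singleton.mp (hu ▸ by simp [h1])
    have hu2 : (⟨fun _ => 1, CfsgLib.Char.isIrrCharacter_one⟩ : IrrCharacter (GJ K)) = u :=
      Finset.mem_singleton.mp (hu ▸ by
        have := (hd ⟨fun _ => 1, CfsgLib.Char.isIrrCharacter_one⟩).2.1
        simp only [Finset.mem_filter, Finset.mem_univ, true_and]
        exact Nat.cast_eq_one.mp this.symm)
    have := key c hc 0 (by norm_num)
    rw [hu1, ← hu2] at this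
    have h00 : (fun _ : B K => (1 : ℂ)) = θ K ψ 0 := by funext x; simp [θ]
    rw [show (fun x : B K => ((⟨fun _ => 1, CfsgLib.Char.isIrrCharacter_one⟩ : IrrCharacter (GJ K)) : GJ K → ℂ) x) =
      θ K ψ 0 from h00, CfsgLib.Char.classInner_irr_self (θ_irr K ψ 0)] at this
    simp at this
  have hab28 : d a + d b = 28 := by
    have := congrFun hf' 1
    change indFun (B K) (θ K ψ 4) 1 = _ at this
    rw [CfsgLib.Char.indFun_one, (card_eqs K hG).2] at this
    simp [θ, (hd a).2.1, (hd b).2.1] at this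
    exact_mod_cast this.symm
  have hodd : ∀ c : IrrCharacter (GJ K), c = a ∨ c = b → Odd (d c) := fun c hc =>
    odd_of_constituent K hψ hG h3 (CfsgLib.Char.isCharacter_of_isIrr c.2) (hd c).2.1 (key c hc)
  have hda := hodd a (.inl rfl)
  have hdb := hodd b (.inr rfl)
  have h1a := hone a (.inl rfl)
  have h1b := hone b (.inr rfl)
  have hva := (hd a).2.2.2
  have hvb := (hd b).2.2.2
  have : d a = 21 ∨ d b = 21 := by
    have hle : d a ≤ 28 := by omega
    have hb' : d b = 28 - d a := by omega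
    rw [hb'] at hdb h1b hvb ⊢
    rw [Nat.odd_iff] at hda hdb
    interval_cases d a <;> omega
  rcases this with h | h
  · exact ⟨a, a.2, h ▸ (hd a).2.1⟩
  · exact ⟨b, b.2, h ▸ (hd b).2.1⟩

omit hψ [Fintype (GJ K)] [Fintype (B K)]

theorem exists_psi : ∃ φ : Fˣ →* ℂˣ, Function.Injective φ := by
  have h8 : Nat.card Fˣ = 8 := by rw [Nat.card_units, K.card]; norm_num
  haveI : NeZero (8 : ℕ) := ⟨by norm_num⟩
  let e : Fˣ ≃* rootsOfUnity 8 ℂ :=
    mulEquivOfCyclicCardEq (h8.trans (Complex.card_rootsOfUnity 8).symm)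
  exact ⟨(Subgroup.subtype _).comp e.toMonoidHom, Subtype.val_injective.comp e.injective⟩

/-- Change of basis to the standard form. -/
theorem exists_equiv_SU (h3 : (3 : F) = 0) : Nonempty (GJ K ≃* SU 3 F 3) := by
  obtain ⟨a, ha⟩ := K.exists_norm (-1) (by simp)
  set Q : Matrix (Fin 3) (Fin 3) F := !![1, 0, -1; a, 0, a; 0, 1, 0] with hQ
  set R : Matrix (Fin 3) (Fin 3) F := !![-1, K.bar a, 0; 0, 0, 1; 1, K.bar a, 0] with hR
  have hQR : Q * R = 1 := by
    ext i j
    fin_cases i <;> fin_cases j <;> simp [hQ, hR, Matrix.mul_apply, Fin.sum_univ_three]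
    all_goals first
      | linear_combination 2 * ha - h3
      | linear_combination -h3
      | linear_combination h3
  have hRQ : R * Q = 1 := mul_eq_one_comm.mp hQR
  have hform : ∀ u v, hermForm 3 F 3 (Q *ᵥ u) (Q *ᵥ v) = formJ K u v := fun u v => by
    rw [Unitary.herm_apply K]
    simp [hQ, formJ, mulVec, dotProduct, Fin.sum_univ_three]
    linear_combination ((u 0 + u 2) * (K.bar (v 0) + K.bar (v 2))) * ha -
      (u 0 * K.bar (v 2) + u 2 * K.bar (v 0)) * h3
  have hconj : ∀ M : Matrix (Fin 3) (Fin 3) F, (Q * M * R).det = M.det := fun M => by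
    have := congrArg det hQR
    rw [det_mul, det_one] at this
    rw [det_mul, det_mul]
    linear_combination M.det * this
  have hfwd : ∀ g : GJ K, ∀ u v, hermForm 3 F 3 ((Q * mat K g * R) *ᵥ u) ((Q * mat K g * R) *ᵥ v) =
      hermForm 3 F 3 u v := fun g u v => by
    rw [mul_assoc, ← mulVec_mulVec, ← mulVec_mulVec, ← mulVec_mulVec, ← mulVec_mulVec, hform]
    refine (g.2 (R *ᵥ u) (R *ᵥ v)).trans ?_
    rw [← hform, mulVec_mulVec, mulVec_mulVec, hQR, one_mulVec, one_mulVec]
  have hbwd : ∀ g : SU 3 F 3, ∀ u v,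
      formJ K ((R * (g.1 : Matrix (Fin 3) (Fin 3) F) * Q) *ᵥ u) ((R * (g.1 : Matrix (Fin 3) (Fin 3) F) * Q) *ᵥ v) =
      formJ K u v := fun g u v => by
    rw [← hform, mulVec_mulVec, mulVec_mulVec, ← mul_assoc, ← mul_assoc, hQR, one_mul,
      ← mulVec_mulVec, ← mulVec_mulVec, ← hform u v]
    exact g.2 _ _
  have hconj' : ∀ M : Matrix (Fin 3) (Fin 3) F, (R * M * Q).det = M.det := fun M => by
    have := congrArg det hQR
    rw [det_mul, det_one] at this
    rw [det_mul, det_mul]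
    linear_combination M.det * this
  exact ⟨{
    toFun := fun g => ⟨⟨Q * mat K g * R, by rw [hconj]; exact g.1.2⟩, hfwd g⟩
    invFun := fun g => ⟨⟨R * (g.1 : Matrix (Fin 3) (Fin 3) F) * Q, by rw [hconj']; exact g.1.2⟩, hbwd g⟩
    left_inv := fun g => mat_ext K (by
      show R * (Q * mat K g * R) * Q = mat K g
      rw [← mul_assoc, ← mul_assoc, hRQ, one_mul, mul_assoc, hRQ, mul_one])
    right_inv := fun g => Subtype.ext (Subtype.ext (by
      show Q * (R * (g.1 : Matrix (Fin 3) (Fin 3) F) * Q) * R = _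
      rw [← mul_assoc, ← mul_assoc, hQR, one_mul, mul_assoc, hQR, mul_one]))
    map_mul' := fun g h => Subtype.ext (Subtype.ext (by
      show Q * (mat K g * mat K h) * R = (Q * mat K g * R) * (Q * mat K h * R)
      rw [show (Q * mat K g * R) * (Q * mat K h * R) = Q * mat K g * (R * Q) * mat K h * R by
        simp only [mul_assoc], hRQ, mul_one]
      simp only [mul_assoc])) }⟩

omit [Finite F] K in
/-- Degrees of irreducible characters of `PSU(3,3)`. -/
theorem psu_degrees {F : Type*} [Field F] [Fintype F] (hF : Fintype.card F = 9) :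
    (∀ d ∈ charDegrees (PSU 3 F 3), d ∣ 6048) ∧ (∃ d ∈ charDegrees (PSU 3 F 3), 14 ∣ d) ∧
      ∃ d ∈ charDegrees (PSU 3 F 3), 21 ∣ d := by
  obtain ⟨K⟩ := CfsgLib.Classical.Herm.exists_conj_of_card (q := 3) (F := F) (by rw [hF]; norm_num)
  have h3 : (3 : F) = 0 := by
    have := Nat.cast_card_eq_zero F
    rw [hF] at this
    exact mul_self_eq_zero.mp (by push_cast at this; linear_combination this)
  haveI : Fact (Nat.Prime 3) := ⟨Nat.prime_three⟩
  haveI : CharP F 3 := (CharP.charP_iff_prime_eq_zero Nat.prime_three).2 (by exact_mod_cast h3)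
  have hSU : Nat.card (SU 3 F 3) = 6048 := by
    rw [CfsgLib.Classical.SU3Invol.card_SU_three K]; norm_num
  have hc : Subgroup.center (SU 3 F 3) = ⊥ := Subgroup.eq_bot_of_card_eq _
    (by rw [CfsgLib.Classical.Herm.card_center K (n := 3) (by norm_num)]; norm_num)
  obtain ⟨e⟩ := exists_equiv_SU K h3
  let eP : GJ K ≃* PSU 3 F 3 :=
    e.trans (QuotientGroup.quotientBot.symm.trans (QuotientGroup.quotientMulEquivOfEq hc.symm))
  have hG : Nat.card (GJ K) = 6048 := (Nat.card_congr e.toEquiv).trans hSU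
  have hperf : commutator (GJ K) = ⊤ := by
    have h := CfsgLib.Classical.Herm.commutator_eq_top K 3 (n := 3) le_rfl (by norm_num)
    apply_fun Subgroup.map (e.symm : SU 3 F 3 →* GJ K) at h
    rwa [commutator_def, Subgroup.map_commutator, Subgroup.map_top_of_surjective _ e.symm.surjective,
      ← commutator_def] at h
  haveI := Fintype.ofFinite (GJ K)
  haveI := Fintype.ofFinite (B K)
  obtain ⟨ψ, hψ⟩ := exists_psi K
  have tr : ∀ {χ : GJ K → ℂ} {d : ℕ}, IsIrrCharacter (GJ K) χ → χ 1 = d →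
      d ∈ charDegrees (PSU 3 F 3) := fun {χ d} hχ h1 =>
    ⟨⟨fun p => χ (eP.symm p), (CfsgLib.Char.isIrrCharacter_comp_equiv eP.symm).mpr hχ⟩,
      CfsgLib.Char.Extraspecial.charDegree_eq (show χ (eP.symm 1) = _ by rw [map_one]; exact h1)⟩
  refine ⟨?_, ?_, ?_⟩
  · rintro d ⟨χ, rfl⟩
    obtain ⟨k, hk, hdvd⟩ := CfsgLib.Char.exists_degree_dvd_card χ.2
    rw [CfsgLib.Char.Extraspecial.charDegree_eq hk, ← hG, Nat.card_congr eP.toEquiv]
    exact hdvd.2
  · obtain ⟨χ, hχ, h1⟩ := degree_28 K hψ hG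
    exact ⟨28, tr hχ h1, by norm_num⟩
  · obtain ⟨χ, hχ, h1⟩ := degree_21 K hψ hG h3 hperf
    exact ⟨21, tr hχ h1, dvd_rfl⟩

end CfsgLib.DegreeThreeThree
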